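import Groth.Agent.CohDerRoofs.Trunc
import Mathlib

/-!
# The ghost lemma and the tensor powers of an ideal killing cohomology
-/

set_option autoImplicit false
set_option backward.isDefEq.respectTransparency false
set_option backward.isDefEq.respectTransparency.types false
set_option linter.style.haveILetI false
set_option maxHeartbeats 1000000

universe w v u

open CategoryTheory Category Limits Pretriangulated

namespace Groth.Agent.DCohGhost

section Ghost

variable {C : Type u} [Category.{v} C] [Abelian C] [HasDerivedCategory.{w} C]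

/-- zero on cohomology -/
def IsGhost {X Y : DerivedCategory C} (f : X ⟶ Y) : Prop :=
  ∀ q : ℤ, (DerivedCategory.homologyFunctor C q).map f = 0

/-- a composite of `k` ghosts between objects in degrees `≥ a` kills degrees `< a + k` -/
theorem ghost (a : ℤ) (X : ℕ → DerivedCategory C) (hX : ∀ j, (X j).IsGE a) (F : ∀ j, X (j + 1) ⟶ X j)
    (hF : ∀ j, IsGhost (F j)) : ∀ k : ℕ, ∃ Φ : X k ⟶ X 0,
      (∀ (G : ∀ j, X j ⟶ X 0), G 0 = 𝟙 (X 0) → (∀ j, G (j + 1) = F j ≫ G j) → G k = Φ) ∧
      ∀ (W : DerivedCategory C), W.IsLE (a + k - 1) → ∀ u : W ⟶ X k, u ≫ Φ = 0 := by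
  intro k
  induction k with
  | zero =>
    refine ⟨𝟙 _, fun G h0 _ => h0, fun W hW u => ?_⟩
    haveI := hW
    haveI := hX 0
    rw [comp_id]
    exact DerivedCategory.TStructure.t.zero u (a + (0 : ℕ) - 1) a (by omega)
  | succ k ih =>
    obtain ⟨Φ, hG, hΦ⟩ := ih
    refine ⟨F k ≫ Φ, fun G h0 hs => by rw [hs k, hG G h0 hs], fun W hW u => ?_⟩
    obtain ⟨P, Q', hP, hQ, f, g, h, hT⟩ :=
      DerivedCategory.TStructure.t.exists_triangle (X k) (a + k - 1) (a + k) (by omega)
    obtain ⟨Ψ, hΨ⟩ : ∃ Ψ : Q' ⟶ X 0, Φ = g ≫ Ψ := Triangle.yoneda_exact₂ _ hT Φ (hΦ P ⟨hP⟩ f)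
    haveI : W.IsLE (a + k) := by
      have e : a + ((k + 1 : ℕ) : ℤ) - 1 = a + k := by push_cast; ring
      exact e ▸ hW
    haveI : Q'.IsGE (a + k) := ⟨hQ⟩
    have h0 : (u ≫ F k) ≫ g = 0 := CohDerRoofs.eq_zero_of_homology_eq_zero (a + k) _ (by
      rw [Functor.map_comp, Functor.map_comp, hF k, comp_zero, zero_comp])
    rw [hΨ, ← assoc, ← assoc, h0, zero_comp]

/-- maps of complexes which are zero on cohomology -/
theorem isGhost_Q {X Y : CochainComplex C ℤ} (f : X ⟶ Y) (h : ∀ q, HomologicalComplex.homologyMap f q = 0) :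
    IsGhost (DerivedCategory.Q.map f) := fun q => by
  rw [← cancel_mono ((DerivedCategory.homologyFunctorFactors C q).hom.app _), zero_comp]
  refine ((DerivedCategory.homologyFunctorFactors C q).hom.naturality _).trans ?_
  rw [show (HomologicalComplex.homologyFunctor _ _ q).map f = 0 from h q, comp_zero]

end Ghost

section Ideal

open MonoidalCategory TensorProduct

variable {A : Type u} [CommRing A] (K : CochainComplex (ModuleCat.{u} A) ℤ) (J : Ideal A)

/-- `J^s ⊗ K` -/
noncomputable abbrev tP (s : ℕ) : CochainComplex (ModuleCat.{u} A) ℤ :=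
  (((curriedTensor (ModuleCat.{u} A)).obj (ModuleCat.of A ↥(J ^ s))).mapHomologicalComplex (ComplexShape.up ℤ)).obj K

/-- the maps `J^t ⊗ K ⟶ J^s ⊗ K` -/
noncomputable abbrev tMap {s t : ℕ} (h : s ≤ t) : tP K J t ⟶ tP K J s :=
  (NatTrans.mapHomologicalComplex ((curriedTensor (ModuleCat.{u} A)).map
    (ModuleCat.ofHom (Submodule.inclusion (p := J ^ t) (p' := J ^ s) (Ideal.pow_le_pow_right h))))
    (ComplexShape.up ℤ)).app K

lemma tMap_comp {r s t : ℕ} (h : r ≤ s) (h' : s ≤ t) : tMap K J h' ≫ tMap K J h = tMap K J (h.trans h') := by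
  ext n : 1
  refine ModuleCat.MonoidalCategory.tensor_ext fun x k => ?_
  rfl

lemma tMap_self (s : ℕ) : tMap K J (le_refl s) = 𝟙 (tP K J s) := by
  ext n : 1
  refine ModuleCat.MonoidalCategory.tensor_ext fun x k => ?_
  rfl

/-- multiplication `J^s ⊗ K^q → K^q` -/
noncomputable def mulK (s : ℕ) (q : ℤ) : (↥(J ^ s) ⊗[A] (K.X q : Type u)) →ₗ[A] K.X q :=
  (TensorProduct.lid A (K.X q)).toLinearMap.comp ((J ^ s).subtype.rTensor (K.X q))

lemma mulK_tmul (s : ℕ) (q : ℤ) (i : ↥(J ^ s)) (k : K.X q) : mulK K J s q (i ⊗ₜ[A] k) = (i : A) • k := rfl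

lemma mulK_injective (s : ℕ) (q : ℤ) [Module.Flat A (K.X q)] : Function.Injective (mulK K J s q) :=
  (TensorProduct.lid A (K.X q)).injective.comp
    (Module.Flat.rTensor_preserves_injective_linearMap _ Subtype.val_injective)

lemma mulK_d (s : ℕ) (p q : ℤ) (x : (tP K J s).X p) :
    mulK K J s q (((tP K J s).d p q).hom x) = (K.d p q).hom (mulK K J s p x) := by
  induction x using TensorProduct.induction_on with
  | zero => simp
  | tmul i k => exact ((K.d p q).hom.map_smul (i : A) k).symm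
  | add x y hx hy => rw [map_add, map_add, hx, hy, map_add, map_add]

lemma mulK_map {s t : ℕ} (h : s ≤ t) (q : ℤ) (x : (tP K J t).X q) :
    mulK K J s q (((tMap K J h).f q).hom x) = mulK K J t q x := by
  induction x using TensorProduct.induction_on with
  | zero => simp
  | tmul i k => rfl
  | add x y hx hy => rw [map_add, map_add, hx, hy, map_add]

lemma mulK_range (s : ℕ) (q : ℤ) : LinearMap.range (mulK K J s q) = J ^ s • (⊤ : Submodule A (K.X q)) := by
  refine le_antisymm ?_ (Submodule.smul_le.2 fun i hi k _ => ⟨(⟨i, hi⟩ : ↥(J ^ s)) ⊗ₜ[A] k, rfl⟩)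
  rintro _ ⟨x, rfl⟩
  induction x using TensorProduct.induction_on with
  | zero => simp
  | tmul i k => exact Submodule.smul_mem_smul i.2 Submodule.mem_top
  | add x y hx hy => rw [map_add]; exact add_mem hx hy

variable [IsNoetherianRing A] (hfin : ∀ q : ℤ, Module.Finite A (K.X q))
  (hproj : ∀ q : ℤ, Module.Projective A (K.X q)) (hJ : ∀ q : ℤ, ∀ x ∈ J, ∀ c : ↑(K.homology q), x • c = 0)

include hJ in
omit [IsNoetherianRing A] in
lemma smul_cycle_mem (i j k : ℤ) (hij : i + 1 = j) (hjk : j + 1 = k) :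
    J • LinearMap.ker (K.d j k).hom ≤ LinearMap.range (K.d i j).hom := by
  rw [Submodule.smul_le]
  intro x hx z hz
  have h1 : (ShortComplex.mk (K.iCycles j) (K.d j k) (K.iCycles_d j k)).Exact :=
    ShortComplex.exact_of_f_is_kernel _ (K.cyclesIsKernel j k (by simp [hjk]))
  obtain ⟨c, hc⟩ := (ShortComplex.moduleCat_exact_iff _).1 h1 z hz
  have h2 : (ShortComplex.mk (K.toCycles i j) (K.homologyπ j) (K.toCycles_comp_homologyπ i j)).Exact :=
    ShortComplex.exact_of_g_is_cokernel _ (K.homologyIsCokernel i j (by simp [← hij]))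
  obtain ⟨y, hy⟩ := (ShortComplex.moduleCat_exact_iff _).1 h2 (x • c) (by
    exact ((K.homologyπ j).hom.map_smul x c).trans (hJ j x hx _))
  refine ⟨y, ?_⟩
  rw [← hc, ← LinearMap.map_smul, ← hy]
  exact congrArg (fun φ : K.X i ⟶ K.X j => φ.hom y) (K.toCycles_i i j).symm

include hfin hproj hJ in
/-- Artin–Rees -/
theorem exists_shift (i j k : ℤ) (hij : i + 1 = j) (hjk : j + 1 = k) :
    ∃ c : ℕ, ∀ s t : ℕ, ∀ h : s ≤ t, c + s ≤ t → ∀ x : (tP K J t).X j, ((tP K J t).d j k).hom x = 0 →
      ∃ y : (tP K J s).X i, ((tP K J s).d i j).hom y = ((tMap K J h).f j).hom x := by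
  haveI := hfin j
  obtain ⟨c, hc⟩ := Ideal.exists_pow_inf_eq_pow_smul J (LinearMap.ker (K.d j k).hom)
  refine ⟨c + 1, fun s t hst hle x hx => ?_⟩
  haveI := hproj j
  have hmem : mulK K J t j x ∈ J ^ t • (⊤ : Submodule A (K.X j)) ⊓ LinearMap.ker (K.d j k).hom := by
    refine ⟨mulK_range K J t j ▸ LinearMap.mem_range_self _ _, ?_⟩
    show (K.d j k).hom (mulK K J t j x) = 0
    rw [← mulK_d, hx, map_zero]
  rw [hc t (by omega)] at hmem
  have hsub : J ^ (t - c) • (J ^ c • ⊤ ⊓ LinearMap.ker (K.d j k).hom) ≤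
      (J ^ s • (⊤ : Submodule A (K.X i))).map (K.d i j).hom := by
    refine (Submodule.smul_mono le_rfl inf_le_right).trans ?_
    refine (Submodule.smul_mono_left (Ideal.pow_le_pow_right (show s + 1 ≤ t - c by omega))).trans ?_
    rw [pow_succ, Submodule.mul_smul, Submodule.map_smul'']
    refine Submodule.smul_mono le_rfl ?_
    rw [Submodule.map_top]
    exact smul_cycle_mem K J hJ i j k hij hjk
  obtain ⟨w, hw, hwx⟩ := hsub hmem
  obtain ⟨y, rfl⟩ : w ∈ LinearMap.range (mulK K J s i) := by rwa [mulK_range]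
  refine ⟨y, mulK_injective K J s j ?_⟩
  rw [mulK_d, mulK_map]
  exact hwx

include hfin hproj hJ in
/-- one uniform step which is zero on cohomology -/
theorem exists_ghost_step (a b : ℤ) (hK : ∀ q : ℤ, q < a ∨ b < q → IsZero (K.X q)) :
    ∃ c : ℕ, ∀ s t : ℕ, ∀ h : s ≤ t, c + s ≤ t → ∀ q : ℤ, HomologicalComplex.homologyMap (tMap K J h) q = 0 := by
  choose c hc using fun j : ℤ => exists_shift K J hfin hproj hJ (j - 1) j (j + 1) (by omega) rfl
  refine ⟨(Finset.Icc a b).sup c, fun s t h hle q => ?_⟩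
  by_cases hq : q ∈ Finset.Icc a b
  · have hcq : c q + s ≤ t := by
      have := Finset.le_sup (f := c) hq
      omega
    rw [← cancel_epi ((tP K J t).homologyπ q), HomologicalComplex.homologyπ_naturality, comp_zero]
    refine ModuleCat.hom_ext (LinearMap.ext fun z => ?_)
    have hz : ((tP K J t).d q (q + 1)).hom (((tP K J t).iCycles q).hom z) = 0 :=
      congrArg (fun φ : (tP K J t).cycles q ⟶ (tP K J t).X (q + 1) => φ.hom z) ((tP K J t).iCycles_d q (q + 1))
    obtain ⟨y, hy⟩ := hc q s t h hcq _ hz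
    have e : (HomologicalComplex.cyclesMap (tMap K J h) q).hom z = ((tP K J s).toCycles (q - 1) q).hom y := by
      refine (ModuleCat.mono_iff_injective ((tP K J s).iCycles q)).1 inferInstance ?_
      refine (congrArg (fun φ : (tP K J t).cycles q ⟶ (tP K J s).X q => φ.hom z)
        (HomologicalComplex.cyclesMap_i (tMap K J h) q)).trans ?_
      refine hy.symm.trans ?_
      exact congrArg (fun φ : (tP K J s).X (q - 1) ⟶ (tP K J s).X q => φ.hom y) ((tP K J s).toCycles_i (q - 1) q).symm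
    change ((tP K J s).homologyπ q).hom ((HomologicalComplex.cyclesMap (tMap K J h) q).hom z) = 0
    rw [e]
    exact congrArg (fun φ : (tP K J s).X (q - 1) ⟶ (tP K J s).homology q => φ.hom y)
      ((tP K J s).toCycles_comp_homologyπ (q - 1) q)
  · refine IsZero.eq_of_src ?_ _ _
    exact ShortComplex.isZero_homology_of_isZero_X₂ _ (((curriedTensor (ModuleCat.{u} A)).obj
      (ModuleCat.of A ↥(J ^ t))).map_isZero (hK q (by rw [Finset.mem_Icc] at hq; omega)))

include hfin hproj hJ in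
/-- **zero in the derived category** -/
theorem exists_Q_map_eq_zero [HasDerivedCategory.{w} (ModuleCat.{u} A)] (a b : ℤ)
    (hK : ∀ q : ℤ, q < a ∨ b < q → IsZero (K.X q)) :
    ∃ n : ℕ, ∀ (m : ℕ) (h : m ≤ n + m), DerivedCategory.Q.map (tMap K J h) = 0 := by
  obtain ⟨c, hc⟩ := exists_ghost_step K J hfin hproj hJ a b hK
  let L := (b + 1 - a).toNat
  refine ⟨c * L, fun m h => ?_⟩
  let Xs : ℕ → DerivedCategory (ModuleCat.{u} A) := fun j => DerivedCategory.Q.obj (tP K J (c * j + m))
  have hle : ∀ j, c * j + m ≤ c * (j + 1) + m := fun j => by rw [Nat.mul_succ]; omega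
  have hle' : ∀ j, c * 0 + m ≤ c * j + m := fun j => by simp
  have hz : ∀ (s : ℕ) (q : ℤ), q < a ∨ b < q → IsZero ((tP K J s).X q) := fun s q hq =>
    ((curriedTensor (ModuleCat.{u} A)).obj (ModuleCat.of A ↥(J ^ s))).map_isZero (hK q hq)
  obtain ⟨Φ, hG, hΦ⟩ := ghost a Xs
    (fun j => by
      haveI : CochainComplex.IsStrictlyGE (tP K J (c * j + m)) a :=
        (CochainComplex.isStrictlyGE_iff _ _).2 fun q hq => hz _ q (Or.inl hq)
      exact (DerivedCategory.isGE_Q_obj_iff _ a).2 inferInstance)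
    (fun j => DerivedCategory.Q.map (tMap K J (hle j)))
    (fun j => isGhost_Q _ fun q => hc _ _ _ (by rw [Nat.mul_succ]; omega) q)
    L
  have h0 : DerivedCategory.Q.map (tMap K J (hle' L)) = Φ :=
    hG (fun j => DerivedCategory.Q.map (tMap K J (hle' j)))
      (by rw [tMap_self, CategoryTheory.Functor.map_id])
      (fun j => by rw [← Functor.map_comp, tMap_comp])
  have hzero : Φ = 0 := by
    rw [← id_comp Φ]
    refine hΦ _ ?_ (𝟙 _)
    haveI : CochainComplex.IsStrictlyLE (tP K J (c * L + m)) (a + L - 1) :=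
      (CochainComplex.isStrictlyLE_iff _ _).2 fun q hq => hz _ q (Or.inr (by omega))
    exact (DerivedCategory.isLE_Q_obj_iff _ _).2 inferInstance
  rw [hzero] at h0
  have key : ∀ (r : ℕ) (hr : r = m) (h' : r ≤ c * L + m), DerivedCategory.Q.map (tMap K J h') = 0 →
      DerivedCategory.Q.map (tMap K J (show m ≤ c * L + m from h)) = 0 := by
    rintro r rfl h' e
    exact e
  exact key _ (by simp) (hle' L) h0

end Ideal

end Groth.Agent.DCohGhost
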